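import Groth.Prelude.Def_StrictSS
import Mathlib.RingTheory.Smooth.Basic
import Mathlib.RingTheory.Smooth.StandardSmooth
import Mathlib.RingTheory.Localization.Away.Basic

/-! # Branches of the node model over a field -/

set_option autoImplicit false
set_option linter.all false
set_option backward.isDefEq.respectTransparency false

universe u

open CategoryTheory CategoryTheory.Limits AlgebraicGeometry

noncomputable section

namespace GrothLib.StrictSS13

variable {A : Type u} [CommRing A]

theorem smooth_polynomial : Algebra.Smooth A (Polynomial A) := by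
  haveI : Algebra.Smooth A (MvPolynomial PUnit.{u+1} A) := ⟨inferInstance, inferInstance⟩
  exact Algebra.Smooth.of_equiv (MvPolynomial.pUnitAlgEquiv A)

theorem smooth_lineToBase : Smooth (StrictSS.lineToBase A) := by
  rw [HasRingHomProperty.Spec_iff (P := @Smooth)]
  have : (algebraMap A (Polynomial A)).Smooth := RingHom.smooth_algebraMap.2 smooth_polynomial
  exact this

/-- For a unit parameter the node model is smooth. -/
theorem smooth_nodeToBase_of_isUnit {a : A} (ha : IsUnit a) : Smooth (StrictSS.nodeToBase A a) := by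
  let L := Localization.Away (Polynomial.X : Polynomial A)
  let x : L := algebraMap (Polynomial A) L Polynomial.X
  let y : L := algebraMap A L a * IsLocalization.Away.invSelf (Polynomial.X : Polynomial A)
  have hxy : x * IsLocalization.Away.invSelf (Polynomial.X : Polynomial A) = 1 :=
    IsLocalization.Away.mul_invSelf _
  let f : StrictSS.NodeAlg A a →ₐ[A] L := Ideal.Quotient.liftₐ _ (MvPolynomial.aeval ![x, y]) (fun z hz => by
    obtain ⟨c, rfl⟩ := Ideal.mem_span_singleton'.1 hz
    have h0 : MvPolynomial.aeval ![x, y] (MvPolynomial.X 0 * MvPolynomial.X 1 - MvPolynomial.C a) = (0 : L) := by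
      simp only [map_sub, map_mul, MvPolynomial.aeval_X, MvPolynomial.aeval_C, Matrix.cons_val_zero,
        Matrix.cons_val_one, y]
      linear_combination (algebraMap A L a) * hxy
    rw [map_mul, h0, mul_zero])
  let u0 : StrictSS.NodeAlg A a := Ideal.Quotient.mk _ (MvPolynomial.X 0)
  let v0 : StrictSS.NodeAlg A a := Ideal.Quotient.mk _ (MvPolynomial.X 1)
  have huv : u0 * v0 = algebraMap A (StrictSS.NodeAlg A a) a := by
    rw [← map_mul, show algebraMap A (StrictSS.NodeAlg A a) a = Ideal.Quotient.mk _ (MvPolynomial.C a) from rfl,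
      Ideal.Quotient.eq]
    exact Ideal.mem_span_singleton_self _
  have hu0 : IsUnit (Polynomial.aeval u0 (Polynomial.X : Polynomial A)) := by
    rw [Polynomial.aeval_X]
    exact isUnit_of_mul_isUnit_left (huv ▸ ha.map (algebraMap A (StrictSS.NodeAlg A a)))
  let g : L →+* StrictSS.NodeAlg A a :=
    IsLocalization.Away.lift (Polynomial.X : Polynomial A) (g := (Polynomial.aeval u0).toRingHom) hu0
  have hg : ∀ p, g (algebraMap (Polynomial A) L p) = Polynomial.aeval u0 p := fun p =>
    IsLocalization.Away.lift_eq _ _ p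
  have hgA : ∀ c, g (algebraMap A L c) = algebraMap A (StrictSS.NodeAlg A a) c := fun c => by
    rw [IsScalarTower.algebraMap_apply A (Polynomial A) L, hg, Polynomial.algebraMap_eq, Polynomial.aeval_C]
  let g' : L →ₐ[A] StrictSS.NodeAlg A a := { g with commutes' := hgA }
  have hgf : g'.comp f = AlgHom.id A _ := by
    refine Ideal.Quotient.algHom_ext _ (MvPolynomial.algHom_ext fun i => ?_)
    simp only [AlgHom.comp_apply, Ideal.Quotient.mkₐ_eq_mk, AlgHom.id_apply, f, Ideal.Quotient.liftₐ_apply,
      Ideal.Quotient.lift_mk, RingHom.coe_coe, MvPolynomial.aeval_X]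
    fin_cases i
    · show g x = u0
      rw [hg, Polynomial.aeval_X]
    · show g y = v0
      have hu : IsUnit u0 := by simpa using hu0
      apply hu.mul_left_cancel
      rw [huv, ← hgA, show u0 = g x by rw [hg, Polynomial.aeval_X], ← map_mul]
      congr 1
      simp only [y]
      linear_combination (algebraMap A L a) * hxy
  have hfg : f.comp g' = AlgHom.id A _ := by
    refine IsLocalization.algHom_ext (Submonoid.powers (Polynomial.X : Polynomial A)) (Polynomial.algHom_ext ?_)
    simp only [AlgHom.comp_apply, IsScalarTower.coe_toAlgHom', AlgHom.id_apply]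
    show f (g (algebraMap (Polynomial A) L Polynomial.X)) = _
    rw [hg, Polynomial.aeval_X]
    simp only [f, u0, Ideal.Quotient.liftₐ_apply, Ideal.Quotient.lift_mk, RingHom.coe_coe, MvPolynomial.aeval_X,
      Matrix.cons_val_zero]
    rfl
  haveI : Algebra.Smooth (Polynomial A) L := Algebra.Smooth.of_isLocalization_Away (Polynomial.X : Polynomial A)
  haveI : Algebra.Smooth A (Polynomial A) := smooth_polynomial
  haveI : Algebra.Smooth A L := Algebra.Smooth.comp A (Polynomial A) L
  haveI : Algebra.Smooth A (StrictSS.NodeAlg A a) := Algebra.Smooth.of_equiv (AlgEquiv.ofAlgHom g' f hgf hfg)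
  rw [HasRingHomProperty.Spec_iff (P := @Smooth)]
  exact RingHom.smooth_algebraMap.2 ‹_›

/-- The branch `X i = 0`. -/
def branch (i : Fin 2) : StrictSS.NodeAlg A (0 : A) →ₐ[A] Polynomial A :=
  Ideal.Quotient.liftₐ _ (MvPolynomial.aeval fun l => if l = i then (0 : Polynomial A) else Polynomial.X) fun z hz => by
    obtain ⟨c, rfl⟩ := Ideal.mem_span_singleton'.1 hz
    fin_cases i <;> simp

theorem branch_mk (i : Fin 2) (p : MvPolynomial (Fin 2) A) :
    branch i (Ideal.Quotient.mk _ p) = MvPolynomial.aeval (fun l => if l = i then (0 : Polynomial A) else Polynomial.X) p :=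
  rfl

theorem branch_surjective (i : Fin 2) : Function.Surjective (branch (A := A) i) := by
  intro P
  refine ⟨Polynomial.aeval (Ideal.Quotient.mk _ (MvPolynomial.X (i + 1))) P, ?_⟩
  rw [← Polynomial.aeval_algHom_apply, branch_mk, MvPolynomial.aeval_X, if_neg (by fin_cases i <;> decide),
    Polynomial.aeval_X_left_apply]

theorem ker_branch_le (i : Fin 2) :
    RingHom.ker (branch (A := A) i) ≤ Ideal.span {Ideal.Quotient.mk _ (MvPolynomial.X i)} := by
  let I : Ideal (StrictSS.NodeAlg A (0 : A)) := Ideal.span {Ideal.Quotient.mk _ (MvPolynomial.X i)}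
  let ι : Polynomial A →ₐ[A] StrictSS.NodeAlg A (0 : A) :=
    Polynomial.aeval (Ideal.Quotient.mk _ (MvPolynomial.X (i + 1)))
  have h : ((Ideal.Quotient.mkₐ A I).comp (ι.comp (branch i))) = Ideal.Quotient.mkₐ A I := by
    refine Ideal.Quotient.algHom_ext _ (MvPolynomial.algHom_ext fun l => ?_)
    simp only [AlgHom.comp_apply, Ideal.Quotient.mkₐ_eq_mk, branch_mk, MvPolynomial.aeval_X]
    split_ifs with hl
    · simp only [map_zero]
      rw [eq_comm, Ideal.Quotient.eq_zero_iff_mem, hl]
      exact Ideal.mem_span_singleton_self _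
    · simp only [ι, Polynomial.aeval_X]
      have : l = i + 1 := by fin_cases l <;> fin_cases i <;> first | rfl | exact absurd rfl hl
      rw [this]
  intro z hz
  rw [RingHom.mem_ker] at hz
  have := DFunLike.congr_fun h z
  simp only [AlgHom.comp_apply, hz, map_zero] at this
  exact Ideal.Quotient.eq_zero_iff_mem.1 this.symm

/-- The node with parameter zero is covered by two closed lines. -/
theorem branch_facts (i : Fin 2) :
    IsClosedImmersion (Spec.map (CommRingCat.ofHom (branch (A := A) i).toRingHom)) ∧
      Spec.map (CommRingCat.ofHom (branch (A := A) i).toRingHom) ≫ StrictSS.nodeToBase A (0 : A) =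
        StrictSS.lineToBase A := by
  refine ⟨IsClosedImmersion.spec_of_surjective _ (branch_surjective i), ?_⟩
  rw [← Spec.map_comp]
  exact congrArg Spec.map (CommRingCat.hom_ext (RingHom.ext fun c => (branch i).commutes c))

theorem mem_range_branch (q : Spec (CommRingCat.of (StrictSS.NodeAlg A (0 : A)))) :
    ∃ i, q ∈ Set.range (Spec.map (CommRingCat.ofHom (branch (A := A) i).toRingHom)) := by
  let q' : PrimeSpectrum (StrictSS.NodeAlg A (0 : A)) := q
  have h : (Ideal.Quotient.mk _ (MvPolynomial.X 0) : StrictSS.NodeAlg A (0 : A)) * Ideal.Quotient.mk _ (MvPolynomial.X 1) ∈ q'.asIdeal := by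
    rw [← map_mul]
    convert zero_mem q'.asIdeal
    rw [Ideal.Quotient.eq_zero_iff_mem]
    exact Ideal.subset_span (by simp)
  obtain ⟨i, hi⟩ : ∃ i, (Ideal.Quotient.mk _ (MvPolynomial.X i) : StrictSS.NodeAlg A (0 : A)) ∈ q'.asIdeal :=
    (q'.2.mem_or_mem h).elim (fun h => ⟨0, h⟩) fun h => ⟨1, h⟩
  refine ⟨i, ?_⟩
  have hr := range_comap_of_surjective _ (branch (A := A) i).toRingHom (branch_surjective i)
  show q' ∈ Set.range (PrimeSpectrum.comap (branch (A := A) i).toRingHom)
  rw [hr, PrimeSpectrum.mem_zeroLocus, SetLike.coe_subset_coe]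
  exact (ker_branch_le i).trans ((Ideal.span_singleton_le_iff_mem _).2 hi)

end GrothLib.StrictSS13
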