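import Groth.Prelude.Def_StrictSS
import Groth.Agent.Lib.RedSmooth.Basic
import Groth.Agent.Lib.AlgMisc.GeomRegAt
import Groth.Agent.Lib.CMFree.Regular
import Mathlib.AlgebraicGeometry.IdealSheaf.Functorial
import Mathlib.RingTheory.Smooth.Basic
import Mathlib.RingTheory.RegularLocalRing.Defs

/-! # Components of strictly semistable curves are smooth -/

set_option autoImplicit false
set_option linter.all false
set_option backward.isDefEq.respectTransparency false

universe u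

open CategoryTheory CategoryTheory.Limits AlgebraicGeometry

noncomputable section

namespace GrothLib.StrictSS13

/-- A point with integral local ring has a unique maximal generisation. -/
theorem exists_unique_max_generisation {P : Scheme.{u}} (p : P) [IsDomain (P.presheaf.stalk p)] :
    ∃ ξ : P, ξ ⤳ p ∧ ∀ q : P, q ⤳ p → ξ ⤳ q := by
  let b : Spec (P.presheaf.stalk p) := (⊥ : PrimeSpectrum (P.presheaf.stalk p))
  have hr := P.range_fromSpecStalk (x := p)
  refine ⟨P.fromSpecStalk p b, hr.le ⟨b, rfl⟩, fun q hq => ?_⟩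
  obtain ⟨a, rfl⟩ := hr.ge hq
  exact ((PrimeSpectrum.le_iff_specializes b a).1 bot_le).map (P.fromSpecStalk p).continuous

/-- Near a point with integral local ring there is a single component. -/
theorem exists_nhd_specializes {P : Scheme.{u}} [IsLocallyNoetherian P] (p : P) [IsDomain (P.presheaf.stalk p)]
    (η : P) (hη : η ⤳ p) : ∃ (O : P.Opens) (ξ : P), p ∈ O ∧ ξ ⤳ η ∧ ∀ q ∈ O, ξ ⤳ q := by
  obtain ⟨ξ, hξp, hξ⟩ := exists_unique_max_generisation p
  obtain ⟨V, hV, hpV, -⟩ := exists_isAffineOpen_mem_and_subset (X := P) (x := p) (U := ⊤) trivial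
  haveI : IsNoetherianRing Γ(P, V) := IsLocallyNoetherian.component_noetherian ⟨V, hV⟩
  haveI : IsAffine (V : Scheme.{u}) := hV
  haveI : TopologicalSpace.NoetherianSpace (V : Set P) :=
    (AlgebraicGeometry.noetherianSpace_of_isAffineOpen V hV : _)
  let bad : Set (Set (V : Set P)) := {Z ∈ irreducibleComponents (V : Set P) | (⟨p, hpV⟩ : (V : Set P)) ∉ Z}
  have hfin : bad.Finite := (TopologicalSpace.NoetherianSpace.finite_irreducibleComponents).subset fun Z h => h.1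
  have hC : IsClosed (⋃ Z ∈ bad, Z) := hfin.isClosed_biUnion fun Z h => isClosed_of_mem_irreducibleComponents Z h.1
  let O : P.Opens := ⟨Subtype.val '' (⋃ Z ∈ bad, Z)ᶜ, V.2.isOpenMap_subtype_val _ hC.isOpen_compl⟩
  refine ⟨O, ξ, ⟨⟨p, hpV⟩, ?_, rfl⟩, hξ η hη, ?_⟩
  · simp only [Set.mem_compl_iff, Set.mem_iUnion₂]
    rintro ⟨Z, hZ, h⟩
    exact hZ.2 h
  · rintro _ ⟨q, hq, rfl⟩
    obtain ⟨Z, hZ, hqZ⟩ := exists_mem_irreducibleComponents_subset_of_isIrreducible _
      (isIrreducible_singleton (x := q))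
    have hpZ : (⟨p, hpV⟩ : (V : Set P)) ∈ Z := by
      by_contra h
      exact hq (Set.mem_iUnion₂.2 ⟨Z, ⟨hZ, h⟩, hqZ rfl⟩)
    haveI : QuasiSober (V : Set P) := inferInstanceAs (QuasiSober (V : Scheme.{u}))
    obtain ⟨z, hz⟩ := QuasiSober.sober hZ.1 (isClosed_of_mem_irreducibleComponents Z hZ)
    have h1 : (z : P) ⤳ p := (hz.specializes hpZ).map continuous_subtype_val
    exact (hξ _ h1).trans ((hz.specializes (hqZ rfl)).map continuous_subtype_val)

variable {k : Type u} [Field k] {C : Scheme.{u}} (φ : C ⟶ Spec (CommRingCat.of k))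

/-- A reduced closed subscheme is smooth where a smooth closed subscheme of an open contains it. -/
theorem smooth_nhd_of_smooth_closed {W : Scheme.{u}} (e : W ⟶ C) [IsClosedImmersion e] [IsReduced W] (η : C)
    (hZ : Set.range e = closure {η}) (hηmax : ∀ z : C, z ⤳ η → z = η) (w : W) (U : C.Opens) (hwU : e w ∈ U)
    {P : Scheme.{u}} (g : P ⟶ (U : Scheme.{u})) [IsClosedImmersion g] [Smooth (g ≫ U.ι ≫ φ)]
    (hcov : ∀ y : (U : Scheme.{u}), U.ι y ∈ closure {η} → y ∈ Set.range g) :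
    ∃ W' : W.Opens, w ∈ W' ∧ Smooth (W'.ι ≫ e ≫ φ) := by
  have hmem : e w ∈ closure {η} := hZ.le ⟨w, rfl⟩
  obtain ⟨p, hp⟩ := hcov ⟨e w, hwU⟩ hmem
  have hp' : (g ≫ U.ι) p = e w := by rw [Scheme.Hom.comp_apply, hp]; rfl
  have hηU : η ∈ U := (specializes_iff_mem_closure.2 hmem).mem_open U.2 hwU
  obtain ⟨η', hη'⟩ := hcov ⟨η, hηU⟩ (subset_closure rfl)
  haveI : IsReduced P := GrothLib.RedSmooth.isReduced_of_smooth (g ≫ U.ι ≫ φ)
  haveI : IsLocallyNoetherian P := LocallyOfFiniteType.isLocallyNoetherian (g ≫ U.ι ≫ φ)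
  haveI : IsRegularLocalRing (P.presheaf.stalk p) :=
    Groth.Agent.Lib.AlgMisc.GeomRegAt.isRegularLocalRing_stalk_of_mem_smoothLocus (g ≫ U.ι ≫ φ)
      (by rw [Scheme.Hom.smoothLocus_eq_top]; trivial)
  haveI : IsDomain (P.presheaf.stalk p) := GrothLib.CMFree.isDomain_of_isRegularLocalRing _
  have hη'p : η' ⤳ p := by
    rw [← g.isClosedEmbedding.isInducing.specializes_iff, hη', hp,
      ← U.ι.isOpenEmbedding.isInducing.specializes_iff]
    exact specializes_iff_mem_closure.2 hmem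
  obtain ⟨O, ξ, hpO, hξη, hO⟩ := exists_nhd_specializes p η' hη'p
  have hξ : (g ≫ U.ι) ξ = η := hηmax _ (by
    have h := hξη.map (g ≫ U.ι).continuous
    rwa [Scheme.Hom.comp_apply g U.ι η', hη'] at h)
  obtain ⟨T, hT, hTO⟩ := g.isClosedEmbedding.isInducing.isOpen_iff.1 O.2
  let V : C.Opens := ⟨U.ι '' T, U.ι.isOpenEmbedding.isOpenMap _ hT⟩
  have hTV : ∀ y : (U : Scheme.{u}), U.ι y ∈ V ↔ y ∈ T := fun y =>
    ⟨fun ⟨y', h, e⟩ => U.ι.isOpenEmbedding.injective e ▸ h, fun h => ⟨y, h, rfl⟩⟩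
  have hgV : ∀ q : P, (g ≫ U.ι) q ∈ V ↔ q ∈ O := fun q => by
    rw [Scheme.Hom.comp_apply, hTV]
    exact Iff.of_eq (congrArg (fun S => q ∈ S) hTO)
  have hVU : V ≤ U := by rintro _ ⟨y, -, rfl⟩; exact y.2
  let j := g ≫ U.ι
  let gV := j ∣_ V
  let eV := e ∣_ V
  haveI : IsClosedImmersion gV := by
    haveI : Surjective (U.ι ∣_ V) := ⟨fun y => ⟨⟨⟨y.1, hVU y.2⟩, y.2⟩, V.ι.isOpenEmbedding.injective (by
      rw [← Scheme.Hom.comp_apply, morphismRestrict_ι]; rfl)⟩⟩
    haveI : IsIso (U.ι ∣_ V) := isIso_of_isOpenImmersion_of_opensRange_eq_top _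
      (TopologicalSpace.Opens.ext (Set.range_eq_univ.2 (U.ι ∣_ V).surjective))
    have : gV = g ∣_ (U.ι ⁻¹ᵁ V) ≫ U.ι ∣_ V := morphismRestrict_comp g U.ι V
    rw [this]
    haveI : IsClosedImmersion (g ∣_ (U.ι ⁻¹ᵁ V)) := IsZariskiLocalAtTarget.restrict ‹_› _
    infer_instance
  haveI : IsReduced ((j ⁻¹ᵁ V : P.Opens) : Scheme.{u}) := inferInstance
  have hrange : ∀ y : (V : Scheme.{u}), y ∈ Set.range gV ↔ y ∈ Set.range eV := by
    intro y
    rw [Set.mem_range, Set.mem_range]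
    constructor
    · rintro ⟨q, hq⟩
      have h1 : (g ≫ U.ι) q.1 = V.ι y := by
        rw [← hq, ← Scheme.Hom.comp_apply, morphismRestrict_ι]; rfl
      have h2 : V.ι y ∈ closure {η} := by
        rw [← h1, ← hξ]
        exact ((hO q.1 ((hgV q.1).1 q.2)).map (g ≫ U.ι).continuous).mem_closure
      obtain ⟨v, hv⟩ := hZ.ge h2
      refine ⟨⟨v, show e v ∈ V from hv ▸ y.2⟩, V.ι.isOpenEmbedding.injective ?_⟩
      rw [← Scheme.Hom.comp_apply, morphismRestrict_ι]; exact hv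
    · rintro ⟨v, hv⟩
      have h1 : e v.1 = V.ι y := by rw [← hv, ← Scheme.Hom.comp_apply, morphismRestrict_ι]; rfl
      obtain ⟨q, hq⟩ := hcov ⟨V.ι y, hVU y.2⟩ (h1 ▸ hZ.le ⟨v.1, rfl⟩)
      have h2 : j q = V.ι y := by show (g ≫ U.ι) q = _; rw [Scheme.Hom.comp_apply, hq]; rfl
      refine ⟨⟨q, show j q ∈ V from h2 ▸ y.2⟩, V.ι.isOpenEmbedding.injective ?_⟩
      rw [← Scheme.Hom.comp_apply, morphismRestrict_ι]; exact h2
  haveI : Surjective (pullback.fst gV eV) := ⟨by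
    rw [← Set.range_eq_univ, Scheme.Pullback.range_fst, Set.eq_univ_iff_forall]
    exact fun q => (hrange _).1 ⟨q, rfl⟩⟩
  haveI : Surjective (pullback.snd gV eV) := ⟨by
    rw [← Set.range_eq_univ, Scheme.Pullback.range_snd, Set.eq_univ_iff_forall]
    exact fun q => (hrange _).2 ⟨q, rfl⟩⟩
  haveI : IsReduced ((e ⁻¹ᵁ V : W.Opens) : Scheme.{u}) := inferInstance
  haveI : IsIso (pullback.fst gV eV) := isIso_of_isClosedImmersion_of_surjective _
  haveI : IsIso (pullback.snd gV eV) := isIso_of_isClosedImmersion_of_surjective _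
  refine ⟨e ⁻¹ᵁ V, show e w ∈ V from hp' ▸ (hgV p).2 hpO, ?_⟩
  haveI : Smooth (j ≫ φ) := by rw [Category.assoc]; infer_instance
  haveI : Smooth (gV ≫ V.ι ≫ φ) := by rw [← Category.assoc, morphismRestrict_ι, Category.assoc]; infer_instance
  have h : eV ≫ V.ι ≫ φ = inv (pullback.snd gV eV) ≫ pullback.fst gV eV ≫ gV ≫ V.ι ≫ φ := by
    rw [IsIso.eq_inv_comp, ← Category.assoc (pullback.fst gV eV), pullback.condition, Category.assoc]
  rw [← Category.assoc, ← morphismRestrict_ι, Category.assoc, h]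
  infer_instance

end GrothLib.StrictSS13
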