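import Groth.Prelude.Def_StrictSS
import Groth.Agent.Lib.NodeOpen11.BaseChange
import Groth.Agent.Lib.CMMor6.Open
import Groth.Agent.Lib.CMMor6.Chart
import Mathlib.RingTheory.AdjoinRoot
import Mathlib.RingTheory.Smooth.Basic

/-! # The line and node models are nodal families of curves -/

set_option autoImplicit false
set_option linter.all false
set_option backward.isDefEq.respectTransparency false

universe u

open CategoryTheory CategoryTheory.Limits AlgebraicGeometry

noncomputable section

namespace GrothLib.StrictSS13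

section algebra

variable {A : Type u} [CommRing A] (a : A)

abbrev nu : StrictSS.NodeAlg A a := Ideal.Quotient.mk _ (MvPolynomial.X 0)
abbrev nv : StrictSS.NodeAlg A a := Ideal.Quotient.mk _ (MvPolynomial.X 1)

theorem nu_mul_nv : nu a * nv a = algebraMap A (StrictSS.NodeAlg A a) a := by
  rw [← map_mul, show algebraMap A (StrictSS.NodeAlg A a) a = Ideal.Quotient.mk _ (MvPolynomial.C a) from rfl,
    Ideal.Quotient.eq]
  exact Ideal.mem_span_singleton_self _

/-- `T ↦ u + v`. -/
def sumHom : MvPolynomial (Fin 1) A →ₐ[A] StrictSS.NodeAlg A a :=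
  MvPolynomial.aeval fun _ => nu a + nv a

/-- `X² - tX + c`. -/
abbrev quadPoly {P : Type u} [CommRing P] (t c : P) : Polynomial P :=
  Polynomial.X ^ 2 + Polynomial.C (-t) * Polynomial.X + Polynomial.C c

/-- A ring with the universal property of `P[X]/(X² - tX + c)` is finite flat over `P`. -/
theorem finite_flat_of_quadratic {P M : Type u} [CommRing P] [CommRing M] (σ : P →+* M) (t c : P) (x : M)
    (hx : x ^ 2 + σ (-t) * x + σ c = 0) (f1 : M →+* AdjoinRoot (quadPoly t c))
    (hσ : f1.comp σ = AdjoinRoot.of (quadPoly t c)) (hroot : f1 x = AdjoinRoot.root (quadPoly t c))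
    (hgen : ∀ g : M →+* M, g.comp σ = σ → g x = x → g = RingHom.id M) : σ.Finite ∧ σ.Flat := by
  letI := σ.toAlgebra
  suffices Module.Finite P M ∧ Module.Flat P M from ⟨this.1, this.2⟩
  have hQ : (quadPoly t c).Monic := by
    show (Polynomial.X ^ 2 + Polynomial.C (-t) * Polynomial.X + Polynomial.C c).Monic
    nontriviality P
    monicity!
  have hx' : (quadPoly t c).eval₂ σ x = 0 := by simpa [quadPoly] using hx
  let f2 : AdjoinRoot (quadPoly t c) →+* M := AdjoinRoot.lift σ x hx'
  have h1 : ∀ y, f2 (f1 y) = y := fun y => RingHom.congr_fun (hgen (f2.comp f1)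
    (by rw [RingHom.comp_assoc, hσ]; exact RingHom.ext fun p => AdjoinRoot.lift_of hx')
    (by rw [RingHom.comp_apply, hroot]; exact AdjoinRoot.lift_root hx')) y
  have h2 : f1.comp f2 = RingHom.id _ := by
    apply Ideal.Quotient.ringHom_ext
    refine Polynomial.ringHom_ext (fun p => ?_) ?_
    · show f1 (f2 (AdjoinRoot.of _ p)) = AdjoinRoot.of _ p
      rw [show f2 (AdjoinRoot.of _ p) = σ p from AdjoinRoot.lift_of hx']
      exact RingHom.congr_fun hσ p
    · show f1 (f2 (AdjoinRoot.root _)) = AdjoinRoot.root _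
      rw [show f2 (AdjoinRoot.root _) = x from AdjoinRoot.lift_root hx', hroot]
  let e : AdjoinRoot (quadPoly t c) ≃ₐ[P] M :=
    AlgEquiv.ofRingEquiv (f := RingEquiv.ofBijective f2
      ⟨Function.LeftInverse.injective (RingHom.congr_fun h2), Function.RightInverse.surjective h1⟩)
      (fun p => AdjoinRoot.lift_of hx')
  haveI : Module.Finite P (AdjoinRoot (quadPoly t c)) := hQ.finite_adjoinRoot
  haveI : Module.Free P (AdjoinRoot (quadPoly t c)) := hQ.free_adjoinRoot
  exact ⟨Module.Finite.equiv e.toLinearEquiv, Module.Flat.of_linearEquiv e.symm.toLinearEquiv⟩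

theorem sumHom_C (c : A) : sumHom a (MvPolynomial.C c) = algebraMap A (StrictSS.NodeAlg A a) c :=
  (sumHom a).commutes c

theorem sumHom_X : sumHom a (MvPolynomial.X 0) = nu a + nv a := MvPolynomial.aeval_X _ _

/-- The node model is free of rank two over the line through `u + v`. -/
theorem finite_flat_sumHom : (sumHom a).toRingHom.Finite ∧ (sumHom a).toRingHom.Flat := by
  let Q := quadPoly (MvPolynomial.X 0 : MvPolynomial (Fin 1) A) (MvPolynomial.C a)
  have hr : AdjoinRoot.root Q ^ 2 + AdjoinRoot.of Q (-MvPolynomial.X 0) * AdjoinRoot.root Q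
      + AdjoinRoot.of Q (MvPolynomial.C a) = 0 := by
    have h := AdjoinRoot.eval₂_root Q
    simpa [Q, quadPoly] using h
  let f0 : MvPolynomial (Fin 2) A →+* AdjoinRoot Q :=
    MvPolynomial.eval₂Hom ((AdjoinRoot.of Q).comp MvPolynomial.C)
      ![AdjoinRoot.root Q, AdjoinRoot.of Q (MvPolynomial.X 0) - AdjoinRoot.root Q]
  have hf0 : ∀ x ∈ Ideal.span {(MvPolynomial.X 0 * MvPolynomial.X 1 - MvPolynomial.C a : MvPolynomial (Fin 2) A)},
      f0 x = 0 := by
    intro x hx
    obtain ⟨c, rfl⟩ := Ideal.mem_span_singleton'.1 hx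
    have h0 : f0 (MvPolynomial.X 0 * MvPolynomial.X 1 - MvPolynomial.C a) = 0 := by
      simp only [f0, map_sub, map_mul, MvPolynomial.eval₂Hom_X', MvPolynomial.eval₂Hom_C, RingHom.comp_apply,
        Matrix.cons_val_zero, Matrix.cons_val_one]
      rw [map_neg] at hr
      linear_combination -hr
    rw [map_mul, h0, mul_zero]
  refine finite_flat_of_quadratic (sumHom a).toRingHom (MvPolynomial.X 0) (MvPolynomial.C a) (nu a) ?_
    (Ideal.Quotient.lift _ f0 hf0) ?_ ?_ ?_
  · simp only [AlgHom.toRingHom_eq_coe, RingHom.coe_coe, map_neg]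
    rw [sumHom_X, sumHom_C, ← nu_mul_nv a]
    ring
  · refine MvPolynomial.ringHom_ext (fun c => ?_) fun i => ?_
    · simp only [AlgHom.toRingHom_eq_coe, RingHom.comp_apply, RingHom.coe_coe]
      rw [sumHom_C, show algebraMap A (StrictSS.NodeAlg A a) c = Ideal.Quotient.mk _ (MvPolynomial.C c) from rfl,
        Ideal.Quotient.lift_mk]
      exact MvPolynomial.eval₂Hom_C _ _ _
    · simp only [AlgHom.toRingHom_eq_coe, RingHom.comp_apply, RingHom.coe_coe]
      rw [Subsingleton.elim i 0, sumHom_X, map_add]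
      simp only [nu, nv, Ideal.Quotient.lift_mk, f0, MvPolynomial.eval₂Hom_X', Matrix.cons_val_zero,
        Matrix.cons_val_one, Q]
      abel
  · rw [nu, Ideal.Quotient.lift_mk]
    exact MvPolynomial.eval₂Hom_X' _ _ _
  · intro g hg hx
    refine Ideal.Quotient.ringHom_ext (MvPolynomial.ringHom_ext (fun c => ?_) fun i => ?_)
    · have := RingHom.congr_fun hg (MvPolynomial.C c)
      simp only [AlgHom.toRingHom_eq_coe, RingHom.comp_apply, RingHom.coe_coe, sumHom_C] at this
      exact this
    · fin_cases i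
      · exact hx
      · have := RingHom.congr_fun hg (MvPolynomial.X 0)
        simp only [AlgHom.toRingHom_eq_coe, RingHom.comp_apply, RingHom.coe_coe, sumHom_X, map_add, hx] at this
        exact add_left_cancel this

open KaehlerDifferential in
theorem nu_mem_fitt1 : nu a ∈ GrothLib.NodeOpen11.fitt1 A (StrictSS.NodeAlg A a) ∧
    nv a ∈ GrothLib.NodeOpen11.fitt1 A (StrictSS.NodeAlg A a) := by
  let M := StrictSS.NodeAlg A a
  let x : Fin 2 → Ω[M⁄A] := ![D A M (nu a), D A M (nv a)]
  have hrel : nv a • D A M (nu a) + nu a • D A M (nv a) = 0 := by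
    rw [add_comm, ← Derivation.leibniz, nu_mul_nv, Derivation.map_algebraMap]
  have hspan : Submodule.span M (Set.range x) = ⊤ := by
    rw [eq_top_iff, ← span_range_derivation, Submodule.span_le]
    rintro _ ⟨y, rfl⟩
    obtain ⟨p, rfl⟩ := Ideal.Quotient.mk_surjective y
    induction p using MvPolynomial.induction_on with
    | C c =>
      rw [show Ideal.Quotient.mk _ (MvPolynomial.C c) = algebraMap A M c from rfl, Derivation.map_algebraMap]
      exact zero_mem _
    | add p q hp hq => rw [map_add, map_add]; exact add_mem hp hq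
    | mul_X p i hp =>
      rw [map_mul, Derivation.leibniz]
      refine add_mem (Submodule.smul_mem _ _ (Submodule.subset_span ⟨i, ?_⟩)) (Submodule.smul_mem _ _ hp)
      fin_cases i <;> rfl
  have key : ∀ c d : M, nv a * d - nu a * c ∈ GrothLib.NodeOpen11.fitt1 A M := by
    intro c d
    refine Ideal.subset_span ⟨2, x, !![nv a, nu a; c, d], hspan, fun i hi => ?_, (Matrix.det_fin_two_of _ _ _ _).symm⟩
    have : i = 0 := by ext; simpa using hi
    subst this
    simpa [Fin.sum_univ_two, x] using hrel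
  refine ⟨?_, by simpa using key 0 1⟩
  convert key (-1) 0 using 1
  ring

theorem ramSet_nodeAlg : GrothLib.NodeOpen11.ramSet A (StrictSS.NodeAlg A a) = ∅ := by
  let M := StrictSS.NodeAlg A a
  let I := GrothLib.NodeOpen11.fitt1 A M
  have hs : Function.Surjective (algebraMap A (M ⧸ I)) := by
    intro z
    obtain ⟨y, rfl⟩ := Ideal.Quotient.mk_surjective z
    obtain ⟨p, rfl⟩ := Ideal.Quotient.mk_surjective y
    induction p using MvPolynomial.induction_on with
    | C c => exact ⟨c, rfl⟩
    | add p q hp hq =>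
      obtain ⟨⟨b, hb⟩, b', hb'⟩ := And.intro hp hq
      exact ⟨b + b', by rw [map_add, hb, hb', map_add, map_add]⟩
    | mul_X p i hp =>
      refine ⟨0, ?_⟩
      have hi : (Ideal.Quotient.mk _ (MvPolynomial.X i) : M) ∈ I := by
        fin_cases i
        · exact (nu_mem_fitt1 a).1
        · exact (nu_mem_fitt1 a).2
      rw [map_zero, map_mul, map_mul, Ideal.Quotient.eq_zero_iff_mem.2 hi, mul_zero]
  haveI : Algebra.FormallyUnramified A (M ⧸ I) :=
    Algebra.FormallyUnramified.of_surjective (Algebra.ofId A (M ⧸ I)) hs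
  rw [GrothLib.NodeOpen11.ramSet, Module.support_eq_empty, Set.image_empty]

end algebra

section geometry

variable (A : Type u) [CommRing A]

abbrev affLine : Spec (CommRingCat.of (MvPolynomial (Fin 1) A)) ⟶ Spec (CommRingCat.of A) :=
  Spec.map (CommRingCat.ofHom (MvPolynomial.C (σ := Fin 1) (R := A)))

theorem affLine_facts :
    LocallyOfFiniteType (affLine A) ∧ Smooth (affLine A) ∧ ∀ z, MoreMor.IsCMAt (affLine A) z ∧
      FlatMor.fibreDimAt (affLine A) z = 1 := by
  refine ⟨?_, ?_, fun z => ⟨GrothLib.CMMor6.isCMAt_polynomial (CommRingCat.of A) 1 z, ?_⟩⟩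
  · exact (HasRingHomProperty.Spec_iff (P := @LocallyOfFiniteType)).2
      (RingHom.finiteType_algebraMap.2 (inferInstance : Algebra.FiniteType A (MvPolynomial (Fin 1) A)))
  · rw [HasRingHomProperty.Spec_iff (P := @Smooth)]
    refine RingHom.smooth_algebraMap.2 ?_
    exact ⟨inferInstance, inferInstance⟩
  · exact GrothLib.FibreDimAt6.fibreDimAt_specMap_eq (R := A) (A := MvPolynomial (Fin 1) A) z 1
      (GrothLib.FibreDimAt6.dim_fiber_mvPolynomial 1 _).le
      (fun e he => (GrothLib.FibreDimAt6.dim_fiber_away_eq z e he).ge)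

theorem isNodalFamily_lineToBase : Smooth (StrictSS.lineToBase A) ∧ Curv2.IsNodalFamily (StrictSS.lineToBase A) := by
  obtain ⟨h1, h2, h3⟩ := affLine_facts A
  let e : MvPolynomial (Fin 1) A ≃ₐ[A] Polynomial A := MvPolynomial.uniqueAlgEquiv A (Fin 1)
  let g : Spec (CommRingCat.of (Polynomial A)) ⟶ Spec (CommRingCat.of (MvPolynomial (Fin 1) A)) :=
    Spec.map e.toRingEquiv.toCommRingCatIso.hom
  have hg : g ≫ affLine A = StrictSS.lineToBase A := by
    rw [← Spec.map_comp]
    refine congrArg Spec.map (CommRingCat.hom_ext (RingHom.ext fun x => ?_))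
    exact e.commutes x
  rw [← hg]
  haveI := h1; haveI := h2
  haveI : Smooth (g ≫ affLine A) := inferInstance
  refine ⟨inferInstance, (GrothLib.NodeOpen11.isNodalFamily_iff _).2 fun z => ⟨⟨?_, ?_⟩, ?_⟩⟩
  · exact (GrothLib.CMMor6.isCMAt_openImmersion_comp_iff g _ z).2 (h3 _).1
  · rw [GrothLib.CMMor6.fibreDimAt_comp_flat_lqf g]; exact (h3 _).2
  · exact (GrothLib.NodeOpen11.mem_goodSet_iff _ z).1 (Or.inl ⟨⊤, trivial, inferInstance⟩)

variable {A} (a : A)

theorem isNodalFamily_nodeToBase : Curv2.IsNodalFamily (StrictSS.nodeToBase A a) := by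
  obtain ⟨h1, h2, h3⟩ := affLine_facts A
  obtain ⟨hfin, hflat⟩ := finite_flat_sumHom a
  let g : Spec (CommRingCat.of (StrictSS.NodeAlg A a)) ⟶ Spec (CommRingCat.of (MvPolynomial (Fin 1) A)) :=
    Spec.map (CommRingCat.ofHom (sumHom a).toRingHom)
  haveI : IsFinite g := (IsFinite.SpecMap_iff _).2 hfin
  haveI : Flat g := Flat.SpecMap_iff.2 hflat
  have hg : g ≫ affLine A = StrictSS.nodeToBase A a := by
    rw [← Spec.map_comp]
    refine congrArg Spec.map (CommRingCat.hom_ext (RingHom.ext fun x => ?_))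
    exact (sumHom a).commutes x
  haveI := h1; haveI := h2
  haveI : Algebra.FinitePresentation A (StrictSS.NodeAlg A a) :=
    Algebra.FinitePresentation.quotient (Submodule.fg_span_singleton _)
  haveI : LocallyOfFinitePresentation (StrictSS.nodeToBase A a) :=
    (HasRingHomProperty.Spec_iff (P := @LocallyOfFinitePresentation)).2
      (RingHom.finitePresentation_algebraMap.2 ‹_›)
  haveI : Flat (StrictSS.nodeToBase A a) := hg ▸ inferInstance
  have hcd : ∀ z, MoreMor.IsCMAt (StrictSS.nodeToBase A a) z ∧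
      FlatMor.fibreDimAt (StrictSS.nodeToBase A a) z = 1 := by
    intro z
    rw [← hg]
    refine ⟨GrothLib.CMMor6.isCMAt_comp g _ z (GrothLib.CMMor6.isLocallyNoetherian_fiber _ _)
      (GrothLib.CMMor6.isCMAt_of_quasiFiniteAt g z (Flat.stalkMap g z) (g.quasiFiniteAt z)) (h3 _).1, ?_⟩
    rw [GrothLib.CMMor6.fibreDimAt_comp_flat_lqf g]; exact (h3 _).2
  refine (GrothLib.NodeOpen11.isNodalFamily_iff _).2 fun z => ⟨hcd z, ?_⟩
  rw [← GrothLib.NodeOpen11.mem_goodSet_iff]
  have := (GrothLib.NodeOpen11.mem_goodSet_iff_chart (StrictSS.nodeToBase A a)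
    (GrothLib.NodeOpen11.hfib_of_fibreDimAt _ fun w => (hcd w).2) (R := A) (A := StrictSS.NodeAlg A a)
    (𝟙 _) (𝟙 _) (by rw [Category.id_comp, Category.comp_id]) z).2
    ⟨(hcd z).1, by rw [ramSet_nodeAlg a]; exact Set.notMem_empty _⟩
  simpa using this

end geometry

end GrothLib.StrictSS13
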